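import Groth.Agent.HilbArtin.Pencil
import Mathlib.RingTheory.Artinian.Ring
import Mathlib.RingTheory.Finiteness.Nakayama

/-!
# The Hilbert scheme of points of a fat point is connected
-/

set_option autoImplicit false
set_option linter.style.haveILetI false
set_option linter.unusedSectionVars false
set_option backward.isDefEq.respectTransparency false
set_option backward.isDefEq.respectTransparency.types false
set_option maxHeartbeats 1000000
set_option synthInstance.maxHeartbeats 400000

universe u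

open CategoryTheory CategoryTheory.Limits AlgebraicGeometry TensorProduct

namespace Groth.Agent.HilbArtin

noncomputable section

section Algebra

variable {K R : Type u} [Field K] [CommRing R] [Algebra K R]

/-- A hyperplane of an ideal containing a given ideal absorbed by the nilradical part. -/
theorem exists_hyperplane {M : Ideal R} (hres : ∀ x : R, ∃ c : K, x - algebraMap K R c ∈ M) (hM : IsNilpotent M)
    {𝔞 I : Ideal R} (hI : 𝔞 < I) :
    ∃ (W : Ideal R) (u : R), 𝔞 ≤ W ∧ u ∉ W ∧ W ⊔ Ideal.span {u} = I ∧ ∀ m ∈ M, m * u ∈ W := by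
  have hne : ¬ I ≤ M * I ⊔ 𝔞 := by
    intro h
    obtain ⟨N, hN⟩ := hM
    have hj : ∀ j : ℕ, I ≤ M ^ j * I ⊔ 𝔞 := by
      intro j
      induction j with
      | zero => rw [pow_zero, Ideal.one_eq_top, Ideal.top_mul]; exact le_sup_left
      | succ j ih =>
        refine ih.trans (sup_le ?_ le_sup_right)
        refine (Ideal.mul_mono_right h).trans ?_
        rw [Ideal.mul_sup]
        refine sup_le (le_sup_of_le_left ?_) (le_sup_of_le_right Ideal.mul_le_right)
        rw [← mul_assoc, pow_succ]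
    refine absurd (le_antisymm hI.le ((hj N).trans ?_)) hI.ne
    rw [hN, Ideal.zero_eq_bot, Ideal.bot_mul, bot_sup_eq]
  obtain ⟨x, hxI, hx⟩ := SetLike.not_le_iff_exists.1 hne
  obtain ⟨l, hl, hlV⟩ := Submodule.exists_dual_map_eq_bot_of_notMem (p := (M * I ⊔ 𝔞).restrictScalars K) hx inferInstance
  have hl0 : ∀ y ∈ M * I ⊔ 𝔞, l y = 0 := fun y hy =>
    (Submodule.mem_bot K).1 (hlV ▸ Submodule.mem_map_of_mem (f := l) hy)
  let W : Ideal R :=
    { carrier := {y | y ∈ I ∧ l y = 0}
      add_mem' := fun {y z} hy hz => ⟨I.add_mem hy.1 hz.1, by rw [map_add, hy.2, hz.2, add_zero]⟩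
      zero_mem' := ⟨I.zero_mem, map_zero l⟩
      smul_mem' := fun r y hy => by
        refine ⟨I.mul_mem_left r hy.1, ?_⟩
        obtain ⟨c, hc⟩ := hres r
        rw [smul_eq_mul, show r * y = (r - algebraMap K R c) * y + algebraMap K R c * y by ring, map_add,
          hl0 _ (Ideal.mem_sup_left (Ideal.mul_mem_mul hc hy.1)), ← Algebra.smul_def, map_smul, hy.2, smul_zero,
          add_zero] }
  have hW : ∀ y, y ∈ W ↔ y ∈ I ∧ l y = 0 := fun y => Iff.rfl
  refine ⟨W, x, fun y hy => (hW y).2 ⟨hI.le hy, hl0 y (Ideal.mem_sup_right hy)⟩, fun h => hl ((hW x).1 h).2, ?_, ?_⟩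
  · refine le_antisymm (sup_le (fun y hy => ((hW y).1 hy).1) ((Ideal.span_singleton_le_iff_mem I).2 hxI)) fun y hy => ?_
    rw [show y = (y - (l y / l x) • x) + (l y / l x) • x by simp, Algebra.smul_def]
    refine Ideal.add_mem _ (Ideal.mem_sup_left ((hW _).2 ⟨?_, ?_⟩))
      (Ideal.mem_sup_right (Ideal.mem_span_singleton'.2 ⟨_, rfl⟩))
    · exact I.sub_mem hy (I.mul_mem_left _ hxI)
    · rw [← Algebra.smul_def, map_sub, map_smul, smul_eq_mul, div_mul_cancel₀ _ hl, sub_self]
  · exact fun m hm => (hW _).2 ⟨I.mul_mem_left m hxI, hl0 _ (Ideal.mem_sup_left (Ideal.mul_mem_mul hm hxI))⟩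

/-- An element outside a proper ideal which the nilradical part maps into it. -/
theorem exists_socle {M : Ideal R} (hM : IsNilpotent M) {𝔞 : Ideal R} (h : 𝔞 ≠ ⊤) :
    ∃ s, s ∉ 𝔞 ∧ ∀ m ∈ M, m * s ∈ 𝔞 := by
  classical
  obtain ⟨N, hN⟩ := hM
  have hex : ∃ j, M ^ j ≤ 𝔞 := ⟨N, by rw [hN, Ideal.zero_eq_bot]; exact bot_le⟩
  let j := Nat.find hex
  have hj : M ^ j ≤ 𝔞 := Nat.find_spec hex
  have hj0 : 0 < j := Nat.pos_of_ne_zero fun h0 => h (top_le_iff.1 (by rwa [h0, pow_zero, Ideal.one_eq_top] at hj))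
  obtain ⟨s, hs, hs'⟩ := SetLike.not_le_iff_exists.1 (Nat.find_min hex (Nat.sub_lt hj0 one_pos))
  refine ⟨s, hs', fun m hm => hj ?_⟩
  rw [show j = (j - 1) + 1 by omega, pow_succ']
  exact Ideal.mul_mem_mul hm hs

/-- Adjoining an element killed modulo an ideal costs one dimension. -/
theorem finrank_sup_span [Module.Finite K R] {W : Ideal R} {x : R} (hx : x ∉ W)
    (h : ∀ r : R, ∃ c : K, r * x - c • x ∈ W) :
    Module.finrank K (R ⧸ (W ⊔ Ideal.span {x})) + 1 = Module.finrank K (R ⧸ W) := by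
  let p := W.restrictScalars K
  let q := Submodule.span K {x}
  have he : (W ⊔ Ideal.span {x}).restrictScalars K = p ⊔ q := by
    refine le_antisymm (fun y hy => ?_) (sup_le (fun y hy => Ideal.mem_sup_left hy)
      (Submodule.span_le.2 (Set.singleton_subset_iff.2 (Ideal.mem_sup_right (Ideal.mem_span_singleton_self x)))))
    obtain ⟨w, hw, z, hz, rfl⟩ := Submodule.mem_sup.1 hy
    obtain ⟨r, rfl⟩ := Ideal.mem_span_singleton'.1 hz
    obtain ⟨c, hc⟩ := h r
    rw [show w + r * x = (w + (r * x - c • x)) + c • x by abel]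
    exact Submodule.add_mem_sup (W.add_mem hw hc) (Submodule.smul_mem _ _ (Submodule.mem_span_singleton_self x))
  have hx0 : x ≠ 0 := fun h0 => hx (h0 ▸ W.zero_mem)
  have hd : p ⊓ q = ⊥ := by
    refine eq_bot_iff.2 fun y hy => ?_
    obtain ⟨c, rfl⟩ := Submodule.mem_span_singleton.1 hy.2
    by_cases hc : c = 0
    · simp [hc]
    · exact absurd ((Submodule.smul_mem_iff p hc).1 hy.1) hx
  have h1 := Submodule.finrank_sup_add_finrank_inf_eq p q
  rw [hd, finrank_bot, add_zero, finrank_span_singleton hx0] at h1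
  have h2 := Submodule.finrank_quotient_add_finrank p
  have h3 := Submodule.finrank_quotient_add_finrank (p ⊔ q)
  have h4 : Module.finrank K (R ⧸ (W ⊔ Ideal.span {x})) = Module.finrank K (R ⧸ (p ⊔ q)) :=
    (Submodule.Quotient.restrictScalarsEquiv K (W ⊔ Ideal.span {x})).symm.finrank_eq.trans
      (Submodule.quotEquivOfEq _ _ he).finrank_eq
  have h5 : Module.finrank K (R ⧸ W) = Module.finrank K (R ⧸ p) :=
    (Submodule.Quotient.restrictScalarsEquiv K W).symm.finrank_eq
  omega

theorem finrank_quotient_le [Module.Finite K R] {I J : Ideal R} (h : I ≤ J) :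
    Module.finrank K (R ⧸ J) ≤ Module.finrank K (R ⧸ I) :=
  LinearMap.finrank_le_finrank_of_surjective (f := (Ideal.Quotient.factorₐ K h).toLinearMap)
    (Ideal.Quotient.factor_surjective h)

theorem eq_of_le_of_finrank_eq [Module.Finite K R] {I J : Ideal R} (h : I ≤ J)
    (he : Module.finrank K (R ⧸ I) = Module.finrank K (R ⧸ J)) : I = J := by
  have h1 := Submodule.finrank_quotient_add_finrank (I.restrictScalars K)
  have h2 := Submodule.finrank_quotient_add_finrank (J.restrictScalars K)
  have h3 : Module.finrank K (R ⧸ I.restrictScalars K) = Module.finrank K (R ⧸ I) :=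
    (Submodule.Quotient.restrictScalarsEquiv K I).finrank_eq
  have h4 : Module.finrank K (R ⧸ J.restrictScalars K) = Module.finrank K (R ⧸ J) :=
    (Submodule.Quotient.restrictScalarsEquiv K J).finrank_eq
  exact Submodule.restrictScalars_injective K R R
    (Submodule.eq_of_le_of_finrank_eq (S₂ := J.restrictScalars K) h (by omega))

end Algebra

section Connected

variable {k : Type u} [Field k] {B : Type u} [CommRing B] [Algebra k B] [Module.Finite k B]
  {K : Type u} [Field K] [Algebra k K] {n : ℕ} {H : Over (Spec (CommRingCat.of k))} {Z : HilbD.Obj (str k B) n H}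
  (hZ : HilbD.IsUniversal (str k B) n H Z) {M : Ideal (K ⊗[k] B)}
  (hres : ∀ x : K ⊗[k] B, ∃ c : K, x - algebraMap K _ c ∈ M) (hM : IsNilpotent M)

theorem finrank_idealOf (g : pt k K ⟶ H) : Module.finrank K ((K ⊗[k] B) ⧸ idealOf Z K g) = n := by
  obtain ⟨h1, -, h3⟩ := idealOf_prop Z K g
  have h := h3 (IsLocalRing.closedPoint K)
  rw [Module.rankAtStalk_eq_finrank_of_free, Pi.natCast_apply] at h
  simpa using h

include hZ hres hM in
/-- One step: a point joins a point whose ideal contains a given socle element. -/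
theorem exists_step {𝔞 : Ideal (K ⊗[k] B)} {g : pt k K ⟶ H} (hlt : 𝔞 < idealOf Z K g) {s : K ⊗[k] B}
    (hsM : ∀ m ∈ M, m * s ∈ 𝔞) :
    ∃ g', 𝔞 ⊔ Ideal.span {s} ≤ idealOf Z K g' ∧ imPt g' ∈ connectedComponent (imPt g) := by
  by_cases hsI : s ∈ idealOf Z K g
  · exact ⟨g, sup_le hlt.le ((Ideal.span_singleton_le_iff_mem _).2 hsI), mem_connectedComponent⟩
  obtain ⟨W, u', haW, huW, hWu, huM⟩ := exists_hyperplane hres hM hlt
  have hsW : s ∉ W := fun h => hsI (hWu ▸ Ideal.mem_sup_left h)
  have hb : ∀ x, ∃ c : K, x * u' - c • u' ∈ W ∧ x * s - c • s ∈ W := by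
    intro x
    obtain ⟨c, hc⟩ := hres x
    refine ⟨c, ?_, ?_⟩
    · rw [Algebra.smul_def, ← sub_mul]
      exact huM _ hc
    · rw [Algebra.smul_def, ← sub_mul]
      exact haW (hsM _ hc)
  have hrank : Module.finrank K ((K ⊗[k] B) ⧸ (W ⊔ Ideal.span {u'})) = n := by rw [hWu]; exact finrank_idealOf g
  have hrank' : Module.finrank K ((K ⊗[k] B) ⧸ (W ⊔ Ideal.span {s})) = n := by
    have h1 := finrank_sup_span (K := K) huW fun r => (hb r).imp fun c hc => hc.1
    have h2 := finrank_sup_span (K := K) hsW fun r => (hb r).imp fun c hc => hc.2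
    omega
  have hu's : u' ∉ (W ⊔ Ideal.span {s}).restrictScalars K := by
    intro h
    obtain ⟨w, hw, z, hz, he⟩ := Submodule.mem_sup.1 (show u' ∈ W ⊔ Ideal.span {s} from h)
    obtain ⟨r, rfl⟩ := Ideal.mem_span_singleton'.1 hz
    obtain ⟨c, -, hc⟩ := hb r
    by_cases hc0 : c = 0
    · refine huW (he ▸ W.add_mem hw ?_)
      simpa [hc0] using hc
    · refine hsI ?_
      have h3 : c • s ∈ idealOf Z K g := by
        rw [show c • s = (w + r * s) - w - (r * s - c • s) by abel, he]
        refine Ideal.sub_mem _ (Ideal.sub_mem _ ?_ ?_) ?_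
        · rw [← hWu]; exact Ideal.mem_sup_right (Ideal.mem_span_singleton_self _)
        · rw [← hWu]; exact Ideal.mem_sup_left hw
        · rw [← hWu]; exact Ideal.mem_sup_left hc
      exact (Submodule.smul_mem_iff ((idealOf Z K g).restrictScalars K) hc0).1 h3
  have hsu : s ∉ (W ⊔ Ideal.span {u'}).restrictScalars K := by
    rw [hWu]
    exact hsI
  obtain ⟨a₁, ha₁, ha₁'⟩ := Submodule.exists_dual_map_eq_bot_of_notMem hu's inferInstance
  obtain ⟨a₂, ha₂, ha₂'⟩ := Submodule.exists_dual_map_eq_bot_of_notMem hsu inferInstance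
  have z₁ : ∀ y ∈ W ⊔ Ideal.span {s}, a₁ y = 0 := fun y hy =>
    (Submodule.mem_bot K).1 (ha₁' ▸ Submodule.mem_map_of_mem (f := a₁) hy)
  have z₂ : ∀ y ∈ W ⊔ Ideal.span {u'}, a₂ y = 0 := fun y hy =>
    (Submodule.mem_bot K).1 (ha₂' ▸ Submodule.mem_map_of_mem (f := a₂) hy)
  obtain ⟨g₀, g₁, hg₀, hg₁, hc₁⟩ := pencil_connected hZ W u' s hb ((a₁ u')⁻¹ • a₁)
    (fun w hw => by simp [z₁ w (Ideal.mem_sup_left hw)]) (by simp [ha₁])
    (by simp [z₁ s (Ideal.mem_sup_right (Ideal.mem_span_singleton_self s))]) hrank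
  obtain ⟨f₀, f₁, hf₀, hf₁, hc₂⟩ := pencil_connected hZ W s u' (fun x => (hb x).imp fun c hc => ⟨hc.2, hc.1⟩)
    ((a₂ s)⁻¹ • a₂)
    (fun w hw => by simp [z₂ w (Ideal.mem_sup_left hw)]) (by simp [ha₂])
    (by simp [z₂ u' (Ideal.mem_sup_right (Ideal.mem_span_singleton_self u'))]) hrank'
  refine ⟨f₀, ?_, ?_⟩
  · rw [hf₀]
    exact sup_le_sup_right haW _
  · have e0 : g₀ = g := idealOf_injective hZ K (hg₀.trans hWu)
    have e1 : f₁ = g₁ := idealOf_injective hZ K (by rw [hf₁, hg₁, add_comm])
    subst e0 e1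
    rw [connectedComponent_eq hc₁, ← connectedComponent_eq hc₂]
    exact mem_connectedComponent

include hZ hres hM in
/-- Two points over the same field are in one connected component. -/
theorem connected_of_le (d : ℕ) : ∀ (𝔞 : Ideal (K ⊗[k] B)), Module.finrank K ((K ⊗[k] B) ⧸ 𝔞) = d →
    ∀ g g' : pt k K ⟶ H, 𝔞 ≤ idealOf Z K g → 𝔞 ≤ idealOf Z K g' → imPt g' ∈ connectedComponent (imPt g) := by
  induction d using Nat.strong_induction_on with
  | _ d ih =>
    intro 𝔞 hd g g' hg hg'
    rcases eq_or_lt_of_le hg with heq | hlt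
    · have : idealOf Z K g = idealOf Z K g' :=
        eq_of_le_of_finrank_eq (K := K) (heq ▸ hg') (by rw [finrank_idealOf, finrank_idealOf])
      rw [idealOf_injective hZ K this]
      exact mem_connectedComponent
    rcases eq_or_lt_of_le hg' with heq | hlt'
    · have : idealOf Z K g' = idealOf Z K g :=
        eq_of_le_of_finrank_eq (K := K) (heq ▸ hg) (by rw [finrank_idealOf, finrank_idealOf])
      rw [idealOf_injective hZ K this]
      exact mem_connectedComponent
    obtain ⟨s, hs, hsM⟩ := exists_socle hM (ne_top_of_lt hlt)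
    obtain ⟨f, hf, hfc⟩ := exists_step hZ hres hM hlt hsM
    obtain ⟨f', hf', hfc'⟩ := exists_step hZ hres hM hlt' hsM
    have h1 := finrank_sup_span (K := K) hs fun r => by
      obtain ⟨c, hc⟩ := hres r
      exact ⟨c, by rw [Algebra.smul_def, ← sub_mul]; exact hsM _ hc⟩
    have h2 := ih _ (by omega) (𝔞 ⊔ Ideal.span {s}) rfl f f' hf hf'
    rw [connectedComponent_eq hfc, connectedComponent_eq h2, ← connectedComponent_eq hfc']
    exact mem_connectedComponent

end Connected

/-- The Hilbert scheme of points of the spectrum of a finite local algebra with trivial residue extension is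
preconnected. -/
theorem preconnectedSpace {k : Type u} [Field k] [IsAlgClosed k] {B : Type u} [CommRing B] [Algebra k B]
    [IsLocalRing B] [Module.Finite k B] {n : ℕ} {H : Over (Spec (CommRingCat.of k))} (Z : HilbD.Obj (str k B) n H)
    (hZ : HilbD.IsUniversal (str k B) n H Z) : PreconnectedSpace H.left := by
  refine preconnectedSpace_iff_connectedComponent.2 fun x => Set.eq_univ_of_forall fun y => ?_
  let ρ : ∀ z : H.left, k →+* H.left.residueField z := fun z =>
    (Spec.preimage (H.left.fromSpecResidueField z ≫ H.hom)).hom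
  have hρ : ∀ z, Spec.map (CommRingCat.ofHom (ρ z)) = H.left.fromSpecResidueField z ≫ H.hom :=
    fun z => Spec.map_preimage _
  letI := (ρ x).toAlgebra
  letI := (ρ y).toAlgebra
  obtain ⟨𝔪, h𝔪⟩ := Ideal.exists_maximal (H.left.residueField x ⊗[k] H.left.residueField y)
  let K := (H.left.residueField x ⊗[k] H.left.residueField y) ⧸ 𝔪
  letI : Field K := Ideal.Quotient.field 𝔪
  let ix : H.left.residueField x →ₐ[k] K :=
    (Ideal.Quotient.mkₐ k 𝔪).comp Algebra.TensorProduct.includeLeft
  let iy : H.left.residueField y →ₐ[k] K :=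
    (Ideal.Quotient.mkₐ k 𝔪).comp Algebra.TensorProduct.includeRight
  let gx : pt k (H.left.residueField x) ⟶ H := Over.homMk (H.left.fromSpecResidueField x) (hρ x).symm
  let gy : pt k (H.left.residueField y) ⟶ H := Over.homMk (H.left.fromSpecResidueField y) (hρ y).symm
  let g := ptMap k ix ≫ gx
  let g' := ptMap k iy ≫ gy
  have hx : imPt g = x := by
    show H.left.fromSpecResidueField x ((ptMap k ix).left (IsLocalRing.closedPoint K)) = x
    exact Scheme.fromSpecResidueField_apply _ _
  have hy : imPt g' = y := by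
    show H.left.fromSpecResidueField y ((ptMap k iy).left (IsLocalRing.closedPoint K)) = y
    exact Scheme.fromSpecResidueField_apply _ _
  let M : Ideal (K ⊗[k] B) := (IsLocalRing.maximalIdeal B).map
    (Algebra.TensorProduct.includeRight (R := k) (A := K) (B := B)).toRingHom
  haveI : IsArtinianRing B := IsArtinianRing.of_finite k B
  have hM : IsNilpotent M := by
    obtain ⟨N, hN⟩ := IsArtinianRing.isNilpotent_jacobson_bot (R := B)
    rw [IsLocalRing.jacobson_eq_maximalIdeal ⊥ bot_ne_top] at hN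
    exact ⟨N, by rw [← Ideal.map_pow, hN, Ideal.zero_eq_bot, Ideal.map_bot, Ideal.zero_eq_bot]⟩
  have hres : ∀ z : K ⊗[k] B, ∃ c : K, z - algebraMap K _ c ∈ M := by
    intro z
    induction z using TensorProduct.induction_on with
    | zero => exact ⟨0, by simp⟩
    | tmul a b =>
      obtain ⟨l, hl⟩ := (IsAlgClosed.algebraMap_bijective_of_isIntegral
        (k := k) (K := IsLocalRing.ResidueField B)).2 (IsLocalRing.residue B b)
      refine ⟨l • a, ?_⟩
      have hb : b - algebraMap k B l ∈ IsLocalRing.maximalIdeal B := by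
        rw [← IsLocalRing.residue_eq_zero_iff, map_sub, ← hl, sub_eq_zero]
        rfl
      have h := M.mul_mem_left (a ⊗ₜ[k] (1 : B)) (Ideal.mem_map_of_mem _ hb)
      rw [show (Algebra.TensorProduct.includeRight (R := k) (A := K) (B := B)).toRingHom (b - algebraMap k B l) =
          (1 : K) ⊗ₜ[k] (b - algebraMap k B l) from rfl, Algebra.TensorProduct.tmul_mul_tmul, _root_.mul_one,
        _root_.one_mul, TensorProduct.tmul_sub] at h
      rwa [Algebra.TensorProduct.algebraMap_apply, Algebra.algebraMap_self, RingHom.id_apply, TensorProduct.smul_tmul,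
        ← Algebra.algebraMap_eq_smul_one]
    | add z z' hz hz' =>
      obtain ⟨c, hc⟩ := hz
      obtain ⟨c', hc'⟩ := hz'
      exact ⟨c + c', by rw [map_add, add_sub_add_comm]; exact M.add_mem hc hc'⟩
  have h := connected_of_le hZ hres hM _ ⊥ rfl g g' bot_le bot_le
  rw [hx, hy] at h
  exact h

end

end Groth.Agent.HilbArtin
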