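import Groth.Agent.HilbArtin.Points

/-!
# Pencils of ideals are connected in the Hilbert scheme
-/

set_option autoImplicit false
set_option linter.style.haveILetI false
set_option backward.isDefEq.respectTransparency false
set_option backward.isDefEq.respectTransparency.types false
set_option maxHeartbeats 1000000
set_option synthInstance.maxHeartbeats 400000

universe u

open CategoryTheory CategoryTheory.Limits AlgebraicGeometry TensorProduct

namespace Groth.Agent.HilbArtin

noncomputable section

set_option linter.unusedSectionVars false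

variable {k : Type u} [Field k] {B : Type u} [CommRing B] [Algebra k B] [Module.Finite k B]
  {K : Type u} [Field K] [Algebra k K]

/-- The point of a field valued point. -/
abbrev imPt {H : Over (Spec (CommRingCat.of k))} (g : pt k K ⟶ H) : H.left :=
  g.left (IsLocalRing.closedPoint K)

/-- The inclusion of constants. -/
abbrev cst : K →ₐ[k] Polynomial K := IsScalarTower.toAlgHom k K (Polynomial K)

theorem chg_smul (c : K) (x : K ⊗[k] B) :
    chgB k B (cst (k := k) (K := K)) (c • x) = Polynomial.C c • chgB k B (cst (k := k) (K := K)) x := by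
  rw [Algebra.smul_def, Algebra.smul_def, map_mul]
  simp [chgB, Algebra.TensorProduct.algebraMap_apply]

/-- The family of ideals `W + (u + t s)`. -/
def pencilIdeal (W : Ideal (K ⊗[k] B)) (u' s : K ⊗[k] B) : Ideal (Polynomial K ⊗[k] B) :=
  W.map (chgB k B (cst (k := k) (K := K))).toRingHom ⊔
    Ideal.span {chgB k B cst u' + (Polynomial.X : Polynomial K) • chgB k B cst s}

theorem pencilIdeal_eval (W : Ideal (K ⊗[k] B)) (u' s : K ⊗[k] B) (a : K) :
    (pencilIdeal W u' s).map (chgB k B ((Polynomial.aeval a).restrictScalars k)).toRingHom =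
      W ⊔ Ideal.span {u' + a • s} := by
  have hc : ∀ x, chgB k B ((Polynomial.aeval a).restrictScalars k) (chgB k B (cst (k := k) (K := K)) x) = x := by
    intro x
    induction x using TensorProduct.induction_on with
    | zero => simp
    | tmul c b => simp [chgB]
    | add x y hx hy => simp only [map_add, hx, hy]
  have hX : ∀ x : Polynomial K ⊗[k] B, chgB k B ((Polynomial.aeval a).restrictScalars k) ((Polynomial.X : Polynomial K) • x) =
      a • chgB k B ((Polynomial.aeval a).restrictScalars k) x := by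
    intro x
    rw [Algebra.smul_def (Polynomial.X : Polynomial K) x, map_mul,
      Algebra.smul_def a (chgB k B ((Polynomial.aeval a).restrictScalars k) x)]
    congr 1
    simp [chgB, Algebra.TensorProduct.algebraMap_apply]
  rw [pencilIdeal, Ideal.map_sup, Ideal.map_map, Ideal.map_span, Set.image_singleton]
  congr 1
  · rw [show (chgB k B ((Polynomial.aeval a).restrictScalars k)).toRingHom.comp
        (chgB k B (cst (k := k) (K := K))).toRingHom = RingHom.id _ from RingHom.ext hc, Ideal.map_id]
  · refine congrArg (fun z => Ideal.span {z}) ?_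
    rw [AlgHom.toRingHom_eq_coe, RingHom.coe_coe, map_add, hX, hc, hc]

section Abstract

variable {K' : Type u} [Field K'] {R R' : Type u} [CommRing R] [Algebra K' R] [Module.Finite K' R]
  [CommRing R'] [Algebra (Polynomial K') R']

/-- A pencil in a base change is free of the expected rank. -/
theorem free_aux {n : ℕ} (j : R →+* R') (hj : ∀ (c : K') (x : R), j (c • x) = Polynomial.C c • j x)
    (hcov : ∀ (z : R') (P : R' → Prop), (∀ x, P (j x)) → (∀ (a : Polynomial K') y, P y → P (a • y)) →
      (∀ y y', P y → P y' → P (y + y')) → P z)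
    (hext : ∀ f : R →ₗ[K'] (Fin n → Polynomial K'), ∃ Ψ : R' →ₗ[Polynomial K'] (Fin n → Polynomial K'),
      ∀ x, Ψ (j x) = f x)
    (W : Ideal R) (u' s : R) (hres : ∀ x : R, ∃ c : K', x * u' - c • u' ∈ W ∧ x * s - c • s ∈ W)
    (α : R →ₗ[K'] K') (hαW : ∀ w ∈ W, α w = 0) (hαu : α u' = 1) (hαs : α s = 0)
    (hn : Module.finrank K' (R ⧸ (W ⊔ Ideal.span {u'})) = n)
    (J : Ideal R') (hJ : J = W.map j ⊔ Ideal.span {j u' + (Polynomial.X : Polynomial K') • j s}) :
    Nonempty ((R' ⧸ J) ≃ₗ[Polynomial K'] (Fin n → Polynomial K')) := by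
  classical
  let I : Ideal R := W ⊔ Ideal.span {u'}
  haveI : Module.Finite K' (R ⧸ I) :=
    Module.Finite.of_surjective (Ideal.Quotient.mkₐ K' I).toLinearMap (Ideal.Quotient.mkₐ_surjective K' I)
  let bas := Module.finBasisOfFinrankEq K' (R ⧸ I) hn
  let cl : R →ₗ[K'] (Fin n → K') := bas.equivFun.toLinearMap ∘ₗ (Ideal.Quotient.mkₐ K' I).toLinearMap
  have hclI : ∀ x ∈ I, cl x = 0 := fun x hx => by
    show bas.equivFun (Ideal.Quotient.mk I x) = 0
    rw [Ideal.Quotient.eq_zero_iff_mem.2 hx, map_zero]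
  have hclW : ∀ w ∈ W, cl w = 0 := fun w hw => hclI w (Ideal.mem_sup_left hw)
  have hclu : cl u' = 0 := hclI u' (Ideal.mem_sup_right (Ideal.mem_span_singleton_self u'))
  choose r₀ hr₀ using fun i => Ideal.Quotient.mk_surjective (bas i)
  let r : Fin n → R := fun i => r₀ i - α (r₀ i) • u'
  have hr : ∀ i, cl (r i) = Pi.single i 1 := fun i => by
    show cl (r₀ i - α (r₀ i) • u') = _
    rw [map_sub, map_smul, hclu, smul_zero, sub_zero]
    show bas.equivFun (Ideal.Quotient.mk I (r₀ i)) = _
    rw [hr₀ i]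
    funext l
    simp [Module.Basis.equivFun_apply, Finsupp.single_apply, Pi.single_apply, eq_comm]
  have hαr : ∀ i, α (r i) = 0 := fun i => by simp [r, map_sub, map_smul, hαu]
  have hdec : ∀ x, ∃ w ∈ W, x = ∑ i, cl x i • r i + α x • u' + w := by
    intro x
    have hd : x - ∑ i, cl x i • r i ∈ I := by
      rw [← Ideal.Quotient.eq_zero_iff_mem]
      apply bas.equivFun.injective
      rw [map_zero]
      show cl (x - ∑ i, cl x i • r i) = 0
      rw [map_sub, map_sum]
      simp only [map_smul, hr]
      funext l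
      simp [Pi.single_apply]
    obtain ⟨w, hw, z, hz, hwz⟩ := Submodule.mem_sup.1 hd
    obtain ⟨y, rfl⟩ := Ideal.mem_span_singleton'.1 hz
    obtain ⟨c, hc, -⟩ := hres y
    have hαx : α x = c := by
      have h := congrArg α hwz
      rw [map_add, hαW w hw, zero_add, show y * u' = (y * u' - c • u') + c • u' by simp, map_add, hαW _ hc,
        zero_add, map_smul, hαu, smul_eq_mul, mul_one, map_sub, map_sum] at h
      simp only [map_smul, hαr, smul_zero, Finset.sum_const_zero, sub_zero] at h
      exact h.symm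
    refine ⟨w + (y * u' - c • u'), W.add_mem hw hc, ?_⟩
    rw [hαx]
    calc x = ∑ i, cl x i • r i + (x - ∑ i, cl x i • r i) := by abel
      _ = ∑ i, cl x i • r i + (w + y * u') := by rw [hwz]
      _ = _ := by abel
  let Ψ₀ : R →ₗ[K'] (Fin n → (Polynomial K')) :=
    { toFun := fun x i => Polynomial.C (cl x i) - Polynomial.X * Polynomial.C (α x * cl s i)
      map_add' := fun x y => by
        funext i
        simp only [map_add, Pi.add_apply, add_mul, mul_add]
        ring
      map_smul' := fun c x => by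
        funext i
        simp only [map_smul, Pi.smul_apply, smul_eq_mul, RingHom.id_apply, map_mul]
        rw [Polynomial.smul_eq_C_mul]
        ring }
  obtain ⟨Ψ, hΨj⟩ := hext Ψ₀
  have hΨu : ∀ i, Ψ₀ u' i = - (Polynomial.X * Polynomial.C (cl s i)) := fun i => by
    show Polynomial.C (cl u' i) - _ = _
    rw [hclu, hαu, _root_.one_mul]
    simp
  have hΨs : ∀ i, Ψ₀ s i = Polynomial.C (cl s i) := fun i => by
    show Polynomial.C (cl s i) - _ = _
    simp [hαs]
  have hΨW : ∀ w ∈ W, Ψ₀ w = 0 := fun w hw => by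
    funext i
    show Polynomial.C (cl w i) - _ = _
    simp [hclW w hw, hαW w hw]
  let v := j u' + (Polynomial.X : (Polynomial K')) • j s
  let Kd : Ideal R' :=
    { carrier := {z | ∀ y, Ψ (y * z) = 0}
      add_mem' := fun {z z'} hz hz' y => by rw [mul_add, map_add, hz, hz', add_zero]
      zero_mem' := fun y => by rw [mul_zero, map_zero]
      smul_mem' := fun c z hz y => by rw [smul_eq_mul, ← mul_assoc]; exact hz _ }
  have hgen : J ≤ Kd := by
    rw [hJ]
    refine sup_le (Ideal.map_le_iff_le_comap.2 fun w hw y => ?_) ((Ideal.span_singleton_le_iff_mem _).2 fun y => ?_)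
    · refine hcov y (fun y => Ψ (y * j w) = 0) (fun x => ?_) (fun a y h => ?_) (fun y y' h h' => ?_)
      · rw [← map_mul, hΨj]
        exact hΨW _ (W.mul_mem_left x hw)
      · rw [smul_mul_assoc, map_smul, h, smul_zero]
      · rw [add_mul, map_add, h, h', add_zero]
    · refine hcov y (fun y => Ψ (y * v) = 0) (fun x => ?_) (fun a y h => ?_) (fun y y' h h' => ?_)
      · obtain ⟨c, h1, h2⟩ := hres x
        rw [mul_add, mul_smul_comm, map_add, map_smul, ← map_mul, ← map_mul, hΨj, hΨj,
          show x * u' = (x * u' - c • u') + c • u' by simp, show x * s = (x * s - c • s) + c • s by simp,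
          map_add, map_add, hΨW _ h1, hΨW _ h2, zero_add, zero_add, map_smul, map_smul]
        funext i
        simp only [Pi.add_apply, Pi.smul_apply, Pi.zero_apply, hΨu, hΨs, smul_eq_mul, Polynomial.smul_eq_C_mul]
        ring
      · rw [smul_mul_assoc, map_smul, h, smul_zero]
      · rw [add_mul, map_add, h, h', add_zero]
  let e : (R' ⧸ J) →ₗ[(Polynomial K')] (Fin n → (Polynomial K')) :=
    (Submodule.liftQ (J.restrictScalars (Polynomial K')) Ψ fun z hz => by
      have := hgen hz 1
      rwa [one_mul] at this) ∘ₗ (Submodule.Quotient.restrictScalarsEquiv (Polynomial K') J).symm.toLinearMap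
  have he : ∀ z, e (Ideal.Quotient.mk J z) = Ψ z := fun z => rfl
  let σ : (Fin n → (Polynomial K')) →ₗ[(Polynomial K')] (R' ⧸ J) := Fintype.linearCombination (Polynomial K') fun i => Ideal.Quotient.mk J (j (r i))
  have hσ : ∀ a, σ a = ∑ i, a i • Ideal.Quotient.mk J (j (r i)) := fun a => rfl
  have hmkW : ∀ w ∈ W, Ideal.Quotient.mk J (j w) = 0 := fun w hw =>
    Ideal.Quotient.eq_zero_iff_mem.2 (hJ ▸ Ideal.mem_sup_left (Ideal.mem_map_of_mem _ hw))
  have hmkv : Ideal.Quotient.mk J v = 0 :=
    Ideal.Quotient.eq_zero_iff_mem.2 (hJ ▸ Ideal.mem_sup_right (Ideal.mem_span_singleton_self _))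
  have hsm : ∀ (a : (Polynomial K')) (z : R'), Ideal.Quotient.mk J (a • z) = a • Ideal.Quotient.mk J z := fun a z => rfl
  have hexp : ∀ x, Ideal.Quotient.mk J (j x) =
      ∑ i, Polynomial.C (cl x i) • Ideal.Quotient.mk J (j (r i)) + Polynomial.C (α x) • Ideal.Quotient.mk J (j u') := by
    intro x
    obtain ⟨w, hw, hx⟩ := hdec x
    conv_lhs => rw [hx]
    rw [map_add, map_add, map_add, map_add, map_sum, map_sum, hmkW w hw, add_zero, hj, hsm]
    congr 1
    exact Finset.sum_congr rfl fun i _ => by rw [hj, hsm]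
  have hu : Ideal.Quotient.mk J (j u') =
      ∑ i, (- (Polynomial.X * Polynomial.C (cl s i))) • Ideal.Quotient.mk J (j (r i)) := by
    have h := hmkv
    rw [map_add, hsm, hexp s, hαs, map_zero, zero_smul, add_zero, add_eq_zero_iff_eq_neg] at h
    rw [h, Finset.smul_sum, ← Finset.sum_neg_distrib]
    exact Finset.sum_congr rfl fun i _ => by rw [smul_smul, neg_smul]
  have h1 : σ ∘ₗ e = LinearMap.id := by
    refine LinearMap.ext fun q => ?_
    obtain ⟨z, rfl⟩ := Ideal.Quotient.mk_surjective q
    show σ (e (Ideal.Quotient.mk J z)) = Ideal.Quotient.mk J z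
    rw [he]
    refine hcov z (fun z => σ (Ψ z) = Ideal.Quotient.mk J z) (fun x => ?_) (fun a y h => ?_) (fun y y' h h' => ?_)
    · rw [hΨj, hσ, hexp x, hu, Finset.smul_sum, ← Finset.sum_add_distrib]
      refine Finset.sum_congr rfl fun i _ => ?_
      rw [smul_smul, ← add_smul]
      congr 1
      show Polynomial.C (cl x i) - Polynomial.X * Polynomial.C (α x * cl s i) = _
      rw [map_mul]
      ring
    · rw [map_smul, map_smul, h, hsm]
    · rw [map_add, map_add, h, h', map_add]
  have h2 : e ∘ₗ σ = LinearMap.id := by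
    refine (Pi.basisFun (Polynomial K') (Fin n)).ext fun i => ?_
    show e (σ ((Pi.basisFun (Polynomial K') (Fin n)) i)) = (Pi.basisFun (Polynomial K') (Fin n)) i
    rw [Pi.basisFun_apply, hσ, Finset.sum_eq_single i (fun l _ hl => by simp [hl]) (by simp)]
    simp only [Pi.single_eq_same, one_smul, he, hΨj]
    funext l
    show Polynomial.C (cl (r i) l) - _ = _
    simp [hr, hαr, Pi.single_apply]
  exact ⟨LinearEquiv.ofLinear e σ h2 h1⟩

end Abstract

/-- Tensors over `k` are spanned by the image of the constants. -/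
theorem cover (z : Polynomial K ⊗[k] B) (P : Polynomial K ⊗[k] B → Prop)
    (hP : ∀ x, P (chgB k B (cst (k := k) (K := K)) x)) (hs : ∀ (a : Polynomial K) y, P y → P (a • y))
    (ha : ∀ y y', P y → P y' → P (y + y')) : P z := by
  induction z using TensorProduct.induction_on with
  | zero =>
    have h := hP 0
    rwa [map_zero] at h
  | tmul a b =>
    have h := hs a _ (hP (1 ⊗ₜ[k] b))
    simpa [chgB, TensorProduct.smul_tmul'] using h
  | add x y hx hy => exact ha _ _ hx hy

/-- Linear maps extend along the change of coefficients. -/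
theorem extend {n : ℕ} (g : (K ⊗[k] B) →ₗ[K] (Fin n → Polynomial K)) :
    ∃ Ψ : (Polynomial K ⊗[k] B) →ₗ[Polynomial K] (Fin n → Polynomial K),
      ∀ x, Ψ (chgB k B (cst (k := k) (K := K)) x) = g x := by
  let f : B →ₗ[k] (Fin n → Polynomial K) :=
    (g.restrictScalars k) ∘ₗ (Algebra.TensorProduct.includeRight (R := k) (A := K) (B := B)).toLinearMap
  refine ⟨f.liftBaseChange (Polynomial K), fun x => ?_⟩
  induction x using TensorProduct.induction_on with
  | zero => simp
  | tmul c b =>
    show f.liftBaseChange (Polynomial K) ((cst (k := k) (K := K) c) ⊗ₜ[k] b) = _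
    rw [LinearMap.liftBaseChange_tmul, show (c ⊗ₜ[k] b : K ⊗[k] B) = c • ((1 : K) ⊗ₜ[k] b) by
      simp [TensorProduct.smul_tmul'], map_smul]
    funext i
    show Polynomial.C c * g (1 ⊗ₜ[k] b) i = c • g (1 ⊗ₜ[k] b) i
    rw [Polynomial.smul_eq_C_mul]
  | add x y hx hy => simp only [map_add, hx, hy]

/-- The family of a pencil is free of the expected rank. -/
theorem pencil_free {n : ℕ} (W : Ideal (K ⊗[k] B)) (u' s : K ⊗[k] B)
    (hres : ∀ x : K ⊗[k] B, ∃ c : K, x * u' - c • u' ∈ W ∧ x * s - c • s ∈ W)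
    (α : (K ⊗[k] B) →ₗ[K] K) (hαW : ∀ w ∈ W, α w = 0) (hαu : α u' = 1) (hαs : α s = 0)
    (hn : Module.finrank K ((K ⊗[k] B) ⧸ (W ⊔ Ideal.span {u'})) = n) :
    Module.Finite (Polynomial K) (Polynomial K ⊗[k] B ⧸ pencilIdeal W u' s) ∧
      Module.Projective (Polynomial K) (Polynomial K ⊗[k] B ⧸ pencilIdeal W u' s) ∧
        ∀ p, Module.rankAtStalk (R := Polynomial K) (Polynomial K ⊗[k] B ⧸ pencilIdeal W u' s) p = n := by
  obtain ⟨E⟩ := free_aux (chgB k B (cst (k := k) (K := K))).toRingHom chg_smul cover extend W u' s hres α hαW hαu hαs hn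
    (pencilIdeal W u' s) rfl
  haveI := Module.Free.of_equiv E.symm
  haveI := Module.Finite.equiv E.symm
  refine ⟨inferInstance, inferInstance, fun p => ?_⟩
  rw [Module.rankAtStalk_eq_finrank_of_free, E.finrank_eq, Pi.natCast_apply, Module.finrank_fin_fun]
  simp

/-- The members at `0` and at `1` of a pencil give points in the same connected component. -/
theorem pencil_connected {n : ℕ} {H : Over (Spec (CommRingCat.of k))} {Z : HilbD.Obj (str k B) n H}
    (hZ : HilbD.IsUniversal (str k B) n H Z) (W : Ideal (K ⊗[k] B)) (u' s : K ⊗[k] B)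
    (hres : ∀ x : K ⊗[k] B, ∃ c : K, x * u' - c • u' ∈ W ∧ x * s - c • s ∈ W)
    (α : (K ⊗[k] B) →ₗ[K] K) (hαW : ∀ w ∈ W, α w = 0) (hαu : α u' = 1) (hαs : α s = 0)
    (hn : Module.finrank K ((K ⊗[k] B) ⧸ (W ⊔ Ideal.span {u'})) = n) :
    ∃ g₀ g₁ : pt k K ⟶ H, idealOf Z K g₀ = W ⊔ Ideal.span {u'} ∧ idealOf Z K g₁ = W ⊔ Ideal.span {u' + s} ∧
      imPt g₁ ∈ connectedComponent (imPt g₀) := by
  obtain ⟨G, hG⟩ := exists_idealOf_eq hZ (Polynomial K) (pencilIdeal W u' s)
    (pencil_free W u' s hres α hαW hαu hαs hn)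
  let g : K → (pt k K ⟶ H) := fun a => ptMap k ((Polynomial.aeval a).restrictScalars k) ≫ G
  have hg : ∀ a, idealOf Z K (g a) = W ⊔ Ideal.span {u' + a • s} := fun a => by
    rw [idealOf_map, hG, pencilIdeal_eval]
  refine ⟨g 0, g 1, by rw [hg, zero_smul, add_zero], by rw [hg, one_smul], ?_⟩
  haveI : PreconnectedSpace (pt k (Polynomial K)).left :=
    inferInstanceAs (PreconnectedSpace (PrimeSpectrum (Polynomial K)))
  have hr : ∀ a, imPt (g a) ∈ Set.range G.left := fun a => ⟨_, rfl⟩
  exact (isPreconnected_range G.left.continuous).subset_connectedComponent (hr 0) (hr 1)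

end

end Groth.Agent.HilbArtin
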