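import Groth.Agent.GrassRep.Rep

/-!
# Points of the Hilbert scheme of points of an affine scheme over a field
-/

set_option autoImplicit false
set_option linter.style.haveILetI false
set_option backward.isDefEq.respectTransparency false
set_option backward.isDefEq.respectTransparency.types false

universe u

open CategoryTheory CategoryTheory.Limits AlgebraicGeometry TensorProduct

namespace Groth.Agent.HilbArtin

noncomputable section

open GrassRep

variable (k : Type u) [Field k] (B : Type u) [CommRing B] [Algebra k B]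

/-- The structure map. -/
abbrev str : Spec (CommRingCat.of B) ⟶ Spec (CommRingCat.of k) :=
  Spec.map (CommRingCat.ofHom (algebraMap k B))

/-- The spectrum of an algebra over the field. -/
abbrev pt (A : Type u) [CommRing A] [Algebra k A] : Over (Spec (CommRingCat.of k)) :=
  Over.mk (Spec.map (CommRingCat.ofHom (algebraMap k A)))

/-- The map of spectra of an algebra map. -/
def ptMap {A A' : Type u} [CommRing A] [Algebra k A] [CommRing A'] [Algebra k A'] (ψ : A →ₐ[k] A') :
    pt k A' ⟶ pt k A :=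
  Over.homMk (Spec.map (CommRingCat.ofHom ψ.toRingHom)) (by
    show Spec.map _ ≫ Spec.map _ = Spec.map _
    rw [← Spec.map_comp, ← CommRingCat.ofHom_comp]
    exact congrArg (fun φ => Spec.map (CommRingCat.ofHom φ)) ψ.comp_algebraMap)

theorem isPullback_pt (A : Type u) [CommRing A] [Algebra k A] :
    IsPullback (Spec.map (CommRingCat.ofHom (Algebra.TensorProduct.includeRight (R := k) (A := A) (B := B)).toRingHom))
      (Spec.map (CommRingCat.ofHom (algebraMap A (A ⊗[k] B)))) (str k B) (pt k A).hom :=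
  (isPullback_SpecMap_of_isPushout _ _ _ _ (CommRingCat.isPushout_tensorProduct k A B)).flip

/-- The base change to an algebra. -/
def iso (A : Type u) [CommRing A] [Algebra k A] :
    Spec (CommRingCat.of (A ⊗[k] B)) ≅ PicF.XT (str k B) (pt k A) :=
  (isPullback_pt k B A).isoPullback

theorem iso_fst (A : Type u) [CommRing A] [Algebra k A] :
    (iso k B A).hom ≫ pullback.fst (str k B) (pt k A).hom =
      Spec.map (CommRingCat.ofHom (Algebra.TensorProduct.includeRight (R := k) (A := A) (B := B)).toRingHom) :=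
  (isPullback_pt k B A).isoPullback_hom_fst

theorem iso_snd (A : Type u) [CommRing A] [Algebra k A] :
    (iso k B A).hom ≫ pullback.snd (str k B) (pt k A).hom =
      Spec.map (CommRingCat.ofHom (algebraMap A (A ⊗[k] B))) :=
  (isPullback_pt k B A).isoPullback_hom_snd

/-- Change of coefficients. -/
abbrev chgB {A A' : Type u} [CommRing A] [Algebra k A] [CommRing A'] [Algebra k A'] (ψ : A →ₐ[k] A') :
    A ⊗[k] B →ₐ[k] A' ⊗[k] B :=
  Algebra.TensorProduct.map ψ (AlgHom.id k B)

theorem iso_map {A A' : Type u} [CommRing A] [Algebra k A] [CommRing A'] [Algebra k A'] (ψ : A →ₐ[k] A') :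
    (iso k B A').hom ≫ PicF.XTmap (str k B) (ptMap k ψ) =
      Spec.map (CommRingCat.ofHom (chgB k B ψ).toRingHom) ≫ (iso k B A).hom := by
  apply pullback.hom_ext
  · simp only [Category.assoc, PicF.XTmap, pullback.lift_fst, Category.comp_id, iso_fst, ← Spec.map_comp,
      ← CommRingCat.ofHom_comp]
    congr 2
    ext b
    show ((1 : A') ⊗ₜ[k] b) = chgB k B ψ ((1 : A) ⊗ₜ[k] b)
    simp [chgB]
  · simp only [Category.assoc, PicF.XTmap, pullback.lift_snd, iso_snd]
    rw [← Category.assoc, iso_snd]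
    show Spec.map _ ≫ Spec.map _ = Spec.map _ ≫ Spec.map _
    rw [← Spec.map_comp, ← Spec.map_comp, ← CommRingCat.ofHom_comp, ← CommRingCat.ofHom_comp]
    congr 2

theorem finLocFree_iso (A : Type u) [CommRing A] [Algebra k A] (d : ℕ)
    (I : (PicF.XT (str k B) (pt k A)).IdealSheafData) (J : Ideal (A ⊗[k] B)) (h : idl J = I.comap (iso k B A).hom) :
    Mor2.IsFinLocFreeOfDeg d (I.subschemeι ≫ PicF.XTproj (str k B) (pt k A)) ↔
      Module.Finite A (A ⊗[k] B ⧸ J) ∧ Module.Projective A (A ⊗[k] B ⧸ J) ∧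
        ∀ p, Module.rankAtStalk (R := A) (A ⊗[k] B ⧸ J) p = d := by
  rw [← finLocFreeOfDeg_idl_iff J d, h]
  have hk : ((I.comap (iso k B A).hom).subschemeι ≫ (iso k B A).hom).ker = I := by
    show (I.comap (iso k B A).hom).map (iso k B A).hom = I
    refine le_antisymm ?_ (Scheme.IdealSheafData.le_map_comap I _)
    have h2 : ((I.comap (iso k B A).hom).map (iso k B A).hom).comap ((iso k B A).inv ≫ (iso k B A).hom) ≤
        (I.comap (iso k B A).hom).comap (iso k B A).inv := by
      rw [Scheme.IdealSheafData.comap_comp]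
      exact Scheme.IdealSheafData.comap_mono _ (Scheme.IdealSheafData.comap_map_le _ _)
    rwa [Iso.inv_hom_id, Scheme.IdealSheafData.comap_id, ← Scheme.IdealSheafData.comap_comp, Iso.inv_hom_id,
      Scheme.IdealSheafData.comap_id] at h2
  conv_lhs => rw [← hk]
  rw [HilbDLib.finLocFreeOfDeg_ker, Category.assoc]
  rw [show (iso k B A).hom ≫ PicF.XTproj (str k B) (pt k A) = _ from iso_snd k B A]

variable {k B} {n : ℕ} {H : Over (Spec (CommRingCat.of k))} (Z : HilbD.Obj (str k B) n H)

/-- The ideal of a point. -/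
def idealOf (A : Type u) [CommRing A] [Algebra k A] (g : pt k A ⟶ H) : Ideal (A ⊗[k] B) :=
  (exists_idl ((HilbD.pull (str k B) g Z.1).comap (iso k B A).hom)).choose

theorem idealOf_spec (A : Type u) [CommRing A] [Algebra k A] (g : pt k A ⟶ H) :
    idl (idealOf Z A g) = (HilbD.pull (str k B) g Z.1).comap (iso k B A).hom :=
  (exists_idl ((HilbD.pull (str k B) g Z.1).comap (iso k B A).hom)).choose_spec

theorem idealOf_prop (A : Type u) [CommRing A] [Algebra k A] (g : pt k A ⟶ H) :
    Module.Finite A (A ⊗[k] B ⧸ idealOf Z A g) ∧ Module.Projective A (A ⊗[k] B ⧸ idealOf Z A g) ∧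
      ∀ p, Module.rankAtStalk (R := A) (A ⊗[k] B ⧸ idealOf Z A g) p = n :=
  (finLocFree_iso k B A n _ _ (idealOf_spec Z A g)).1 (HilbDLib.isFinLocFreeOfDeg_pull (str k B) g Z.1 Z.2)

theorem idealOf_map {A A' : Type u} [CommRing A] [Algebra k A] [CommRing A'] [Algebra k A'] (ψ : A →ₐ[k] A')
    (g : pt k A ⟶ H) : idealOf Z A' (ptMap k ψ ≫ g) = (idealOf Z A g).map (chgB k B ψ).toRingHom := by
  refine idl_injective ?_
  rw [← idl_comap, idealOf_spec, idealOf_spec, HilbDLib.pull_eq_comap, HilbDLib.pull_eq_comap,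
    show PicF.XTmap (str k B) (ptMap k ψ ≫ g) = PicF.XTmap (str k B) (ptMap k ψ) ≫ PicF.XTmap (str k B) g by
      apply pullback.hom_ext <;> simp [PicF.XTmap],
    ← Scheme.IdealSheafData.comap_comp, ← Scheme.IdealSheafData.comap_comp, ← Scheme.IdealSheafData.comap_comp,
    ← Category.assoc, iso_map, Category.assoc]

variable {Z} (hZ : HilbD.IsUniversal (str k B) n H Z)

include hZ in
theorem idealOf_injective (A : Type u) [CommRing A] [Algebra k A] {g g' : pt k A ⟶ H}
    (h : idealOf Z A g = idealOf Z A g') : g = g' := by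
  have h' : (HilbD.pull (str k B) g Z.1).comap (iso k B A).hom =
      (HilbD.pull (str k B) g' Z.1).comap (iso k B A).hom := by rw [← idealOf_spec, ← idealOf_spec, h]
  have h'' := congrArg (fun I => Scheme.IdealSheafData.comap I (iso k B A).inv) h'
  simp only [← Scheme.IdealSheafData.comap_comp, Iso.inv_hom_id, Scheme.IdealSheafData.comap_id] at h''
  obtain ⟨g₀, -, hg₀⟩ := hZ (pt k A) ⟨HilbD.pull (str k B) g Z.1,
    HilbDLib.isFinLocFreeOfDeg_pull (str k B) g Z.1 Z.2⟩
  exact (hg₀ _ rfl).trans (hg₀ _ h''.symm).symm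

include hZ in
theorem exists_idealOf_eq (A : Type u) [CommRing A] [Algebra k A] (J : Ideal (A ⊗[k] B))
    (hJ : Module.Finite A (A ⊗[k] B ⧸ J) ∧ Module.Projective A (A ⊗[k] B ⧸ J) ∧
      ∀ p, Module.rankAtStalk (R := A) (A ⊗[k] B ⧸ J) p = n) :
    ∃ g : pt k A ⟶ H, idealOf Z A g = J := by
  have h1 : idl J = ((idl J).comap (iso k B A).inv).comap (iso k B A).hom := by
    rw [← Scheme.IdealSheafData.comap_comp, Iso.hom_inv_id, Scheme.IdealSheafData.comap_id]
  obtain ⟨g, hg, -⟩ := hZ (pt k A) ⟨(idl J).comap (iso k B A).inv, (finLocFree_iso k B A n _ _ h1).2 hJ⟩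
  exact ⟨g, idl_injective (by rw [idealOf_spec, hg, ← h1])⟩

end

end Groth.Agent.HilbArtin
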